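import Cfsg.Agent.Omega.NO3S.TwoOne.TI.Base

/-!
# NO-3S, `TwoOne` / `CompP`: `D_x > I`, no plane (helper409's THEOREM (N16), bb OMEGA #18674), pure form

`TI.Gen` (helper614) with two more fields:

* `six` = (N6): `λ' ∉ Ē_l ⟹ [λ, A_l'] ≤ Ē_l`;
* `bb` = (N13): `λ' ∉ Ē_l`, `λ ∉ Ē_l'`, `b = α_l(λ')` ⟹ `[λ', b] ≤ ⟨λ⟩`.

`Dat.fixb` = (N6)(b), `Dat.symm` = (N6)(c), `Dat.norm_comm`, `Dat.false` = (N16).
-/

set_option autoImplicit false
set_option linter.unusedSimpArgs false

namespace Cfsg.Agent.Omega.NO3S.TwoOne.TD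

open Cfsg.Agent.Omega.NO3S.TwoOne.TI

/-- the fields of #18674 -/
structure Dat {M H : Type*} [AddCommGroup M] [Group H] [DistribMulAction H M] (L : Set M) (A : M → Subgroup H)
    (I : M → AddSubgroup M) (al : M → M → H) : Prop extends Gen L A I al where
  /-- (N6) -/
  six : ∀ {l m : M}, l ∈ L → m ∈ L → al l m ≠ 1 → ∀ a ∈ A m, al l (a • l + l) = 1
  /-- (N13) -/
  bb : ∀ {l m : M}, l ∈ L → m ∈ L → al l m ≠ 1 → al m l ≠ 1 → al l m • m = m ∨ al l m • m = m + l

namespace Dat

variable {M H : Type*} [AddCommGroup M] [Group H] [DistribMulAction H M] {L : Set M} {A : M → Subgroup H}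
    {I : M → AddSubgroup M} {al : M → M → H} (D : Dat L A I al)
include D

theorem al_self {l : M} (hl : l ∈ L) : al l l = 1 := D.al_I_one hl (D.self hl)

/-- (N6)(b) -/
theorem fixb {l m : M} (hl : l ∈ L) (hm : m ∈ L) (h : al l m ≠ 1) {a a' : H} (ha : a ∈ A l) (ha' : a' ∈ A m) :
    a • (a' • l) = a' • l := by
  have h0 : al l (a' • l + l) = 1 := D.six hl hm h a' ha'
  have h1 : al l (a' • l) = 1 := by
    have e : a' • l = (a' • l + l) + l := by rw [add_assoc, D.two, add_zero]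
    rw [e, D.al_add hl, h0, D.al_self hl, one_mul]
  rcases (D.al_ker hl _).1 h1 a ha with h2 | h2
  · exact h2
  · exfalso
    have h3 : a' • l + l ∈ L := h2 ▸ D.smul a (D.smul a' hl)
    have h4 : a' • l + l = m := D.LI hm h3 (D.comm hm ha' l)
    rw [h4] at h0
    exact h h0

/-- (N6)(c) -/
theorem symm [Finite H] {l m : M} (hl : l ∈ L) (hm : m ∈ L) (h : al l m ≠ 1) : al m l ≠ 1 := by
  intro h1
  apply h
  rw [D.al_ker hl]
  intro a ha
  left
  by_contra ham
  obtain ⟨a', ha', hal⟩ := D.exists_move hl hm ha ham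
  rcases (D.al_ker hm _).1 h1 a' ha' with h2 | h2
  · exact hal h2
  · apply h
    have h3 := D.six hl hm h a' ha'
    have e : a' • l + l = m := by
      rw [h2, add_comm, D.two_left]
    rwa [e] at h3

/-- `A m` and `A (a₁ • m)`, `a₁ ∈ A l`, commute elementwise if `λ_m ∉ Ē_l` -/
theorem norm_comm [Finite H] {l m : M} (hl : l ∈ L) (hm : m ∈ L) (h : al l m ≠ 1) {a₁ x y : H} (h₁ : a₁ ∈ A l)
    (h₁m : a₁ • m ≠ m) (hx : x ∈ A m) (hy : y ∈ A m) :
    (a₁ * y * a₁) ∈ A (a₁ • m) ∧ (a₁ * y * a₁) • m = m ∧ x • (a₁ • m) = a₁ • m ∧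
      x * (a₁ * y * a₁) = a₁ * y * a₁ * x := by
  have h' := D.symm hl hm h
  have hss := D.sq hl h₁
  have hinv : a₁⁻¹ = a₁ := D.inv hl h₁
  have e1 : a₁ * y * a₁ ∈ A (a₁ • m) := by
    have := D.A_conj a₁ hm hy
    rwa [hinv] at this
  have e2 : (a₁ * y * a₁) • m = m := by
    rw [mul_smul, mul_smul, D.fixb hm hl h' hy h₁, ← mul_smul, hss, one_smul]
  have e3 : x • (a₁ • m) = a₁ • m := D.fixb hm hl h' hx h₁
  exact ⟨e1, e2, e3, D.bb_comm hm (D.smul a₁ hm) (fun e => h₁m e.symm) hx e3 e1 e2⟩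

/-- **THEOREM (N16)** (helper409): `D_x > I` and no plane is impossible. -/
theorem false [Finite H] (hne : ∃ l, l ∈ L) : False := by
  obtain ⟨l, hl⟩ := hne
  -- an S-pair
  obtain ⟨m, hm, h⟩ : ∃ m ∈ L, al l m ≠ 1 := by
    by_contra hcon
    push Not at hcon
    obtain ⟨a, ha, ha1⟩ := D.exists_ne hl
    obtain ⟨x, hx⟩ := D.al_surj hl ha
    apply ha1
    have h0 : al l 0 = 1 := by
      have h00 := D.al_add hl 0 0
      rw [add_zero] at h00
      exact mul_eq_left.1 h00.symm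
    have key : ∀ y ∈ AddSubgroup.closure L, al l y = 1 := by
      intro y hy
      induction hy using AddSubgroup.closure_induction with
      | mem y hy => exact hcon y hy
      | zero => exact h0
      | add y z _ _ h1 h2 => rw [D.al_add hl, h1, h2, one_mul]
      | neg y _ h1 =>
        have e : -y = y := neg_eq_of_add_eq_zero_left (D.two y)
        rw [e, h1]
    rw [← hx]
    exact key x (by rw [D.gen]; exact AddSubgroup.mem_top x)
  have h' := D.symm hl hm h
  -- (1)
  have hb : al l m • m = m := by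
    rcases D.bb hl hm h h' with h2 | h2
    · exact h2
    · exfalso
      have h3 := D.six hm hl h' _ (D.al_mem hl m)
      have e : al l m • m + m = l := by
        rw [h2, add_comm, D.two_left]
      rw [e] at h3
      exact h' h3
  have hb₂ : al m l • l = l := by
    rcases D.bb hm hl h' h with h2 | h2
    · exact h2
    · exfalso
      have h3 := D.six hl hm h _ (D.al_mem hm l)
      have e : al m l • l + l = m := by
        rw [h2, add_comm, D.two_left]
      rw [e] at h3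
      exact h h3
  -- (2)
  obtain ⟨a₁, h₁, h₁m⟩ : ∃ a ∈ A l, a • m ≠ m := by
    by_contra hcon
    push Not at hcon
    exact h ((D.al_ker hl m).2 fun a ha => Or.inl (hcon a ha))
  obtain ⟨b, hbe⟩ : ∃ b, b = al m l := ⟨_, rfl⟩
  have hbA : b ∈ A m := hbe ▸ D.al_mem hm l
  have hb1 : b ≠ 1 := hbe ▸ h'
  rw [← hbe] at hb₂
  have hcA := (D.bracket hl hm h₁ hbA hb₂).1
  have hbb := D.sq hm hbA
  have hss := D.sq hl h₁
  have hc1 : b * (a₁ * b * a₁) ≠ 1 := by
    intro hc
    apply h₁m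
    refine D.cent hm hbA hb1 ?_
    have h2 : a₁ * b * a₁ = b := by
      have h4 := inv_eq_of_mul_eq_one_right hc
      rw [D.inv hm hbA] at h4
      exact h4.symm
    calc a₁ * b = a₁ * b * a₁ * a₁ := by rw [mul_assoc (a₁ * b), hss, mul_one]
      _ = b * a₁ := by rw [h2]
  -- (3), (4)
  obtain ⟨e, -, he⟩ := D.phi hl hcA hc1
  obtain ⟨hb''A, hb''m, -, -⟩ := D.norm_comm hl hm h h₁ h₁m hbA hbA
  obtain ⟨b'', hb''⟩ : ∃ b'', b'' = a₁ * b * a₁ := ⟨_, rfl⟩
  obtain ⟨w, hw⟩ : ∃ w, w = b'' • e + e := ⟨_, rfl⟩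
  have two := D.two
  have tl := D.two_left
  have hl₂ : a₁ • m ∈ L := D.smul a₁ hm
  -- `w` is fixed by `A m`
  have hwfix : ∀ a' ∈ A m, a' • w = w := by
    intro a' ha'
    obtain ⟨-, -, h3, h4⟩ := D.norm_comm hl hm h h₁ h₁m ha' hbA
    rw [← hb''] at h4 hb''A hb''m
    obtain ⟨w', hw'⟩ : ∃ w', w' = a' • e + e := ⟨_, rfl⟩
    have h5 : a' • w + w = b'' • w' + w' := by
      rw [hw, hw', smul_add, smul_add, ← mul_smul, ← mul_smul, h4]
      simp only [add_assoc, add_comm, add_left_comm]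
    have h6 : a' • w = w ∨ a' • w = w + m := by
      apply (D.al_ker hm w).1 _ a' ha'
      rw [hw, D.al_add hm, D.al_conj hm hb''m]
      have h7 := (D.norm_comm hl hm h h₁ h₁m (D.al_mem hm e) hbA).2.2.2
      rw [← hb''] at h7
      rw [← h7, mul_inv_cancel_right]
      exact D.sq hm (D.al_mem hm e)
    have h8 : b'' • w' = w' ∨ b'' • w' = w' + a₁ • m := by
      apply (D.al_ker hl₂ w').1 _ b'' hb''A
      rw [hw', D.al_add hl₂, D.al_conj hl₂ h3]
      have h9 : a' * al (a₁ • m) e = al (a₁ • m) e * a' := by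
        have h10 : a₁ * al (a₁ • m) e * a₁ ∈ A m := by
          have := D.A_conj a₁ hl₂ (D.al_mem hl₂ e)
          rw [← mul_smul, hss, one_smul, D.inv hl h₁] at this
          exact this
        have h11 := (D.norm_comm hl hm h h₁ h₁m ha' h10).2.2.2
        have h12 : a₁ * (a₁ * al (a₁ • m) e * a₁) * a₁ = al (a₁ • m) e := by
          calc a₁ * (a₁ * al (a₁ • m) e * a₁) * a₁ = (a₁ * a₁) * al (a₁ • m) e * (a₁ * a₁) := by group
            _ = _ := by rw [hss, one_mul, mul_one]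
        rwa [h12] at h11
      rw [h9, mul_inv_cancel_right]
      exact D.sq hl₂ (D.al_mem hl₂ e)
    have h13 : a' • w + w = 0 := by
      rcases h6 with h6 | h6
      · rw [h6, two]
      · rcases h8 with h8 | h8
        · rw [h5, h8, two]
        · exfalso
          apply h₁m
          have e1 : a' • w + w = m := by rw [h6, add_comm, tl]
          have e2 : b'' • w' + w' = a₁ • m := by rw [h8, add_comm, tl]
          rw [← e2, ← h5, e1]
    calc a' • w = (a' • w + w) + w := by rw [add_assoc, two, add_zero]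
      _ = w := by rw [h13, zero_add]
  -- `l` is fixed by `A m`
  apply h'
  rw [D.al_ker hm]
  intro a' ha'
  left
  have e1 : l = (b • (b'' • e) + b'' • e) + w := by
    have e2 : (b * b'') • e = e + l := by rw [hb'']; exact he
    rw [hw, ← mul_smul, e2]
    simp only [add_assoc, add_comm, add_left_comm, two, tl, add_zero]
  have e3 : a' • (b • (b'' • e) + b'' • e) = b • (b'' • e) + b'' • e := D.fix hm ha' (D.comm hm hbA _)
  rw [e1, smul_add, e3, hwfix a' ha']

end Dat

end Cfsg.Agent.Omega.NO3S.TwoOne.TD
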