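import Cfsg.Agent.Omega.NO3S.TwoOne.TIa
import Cfsg.Agent.Omega.NO3S.TwoOne.Alpha
import Cfsg.Agent.Omega.NO3S.TwoOne.SymRelD

/-!
# NO-3S, `q = 2`, `n = 1`, no `λ`-transvections: (N13) of helper409's text #18674

`h : One T V z`, `NT V`, `D_x > I` (`¬ dd V z ≤ ii V`), `L` a line on `z`, `y ∈ V`, `q ∈ L` points `≠ z`.

* `One.line_cent`, `NP.of_line`, `One.exists_dd` : transport to the other lines on `z`;
* `One.nsix_line` (N6) : `y ∉ E_z(L)`, `w ∈ W_y` imply `w q w⁻¹ q⁻¹ ∈ E_z(L)`;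
* `One.kappa_mem` : `[w, w^e] ∈ I_L`;
* `One.nt_beta_zero` **(N13)** : no plane; `q ∉ E_z(V)`, `y ∉ E_z(L)`: `β(b, b) = 0` for `b = α(q)`.
-/

set_option autoImplicit false
set_option linter.unusedSectionVars false

namespace Cfsg.Agent.Omega.NO3S.TwoOne

open Subgroup Cfsg Cfsg.Agent.ZN Cfsg.Agent.MinSimple.Geo Cfsg.Agent.Omega.CaseL
open Cfsg.Agent.ZN.Block (conj_mem_of_normalizer conj_mem_of_normalizer' le_normalizer_of_forall
  mem_normalizer_of)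
open scoped commutatorElement

universe u

variable {G : Type u} [Group G]

/-- a line on `z` is the image of `V` under an element of `C_G(z)` -/
theorem One.line_cent {T V : Subgroup G} {z : G} (h : One T V z) {L : Subgroup G} (hL : L ∈ lines V z) :
    ∃ c ∈ centralizer ({z} : Set G), L = cj c V := by
  obtain ⟨⟨g, rfl⟩, hz⟩ := hL
  rw [mem_cj] at hz
  have hz1 : g⁻¹ * z * g ≠ 1 := fun e => h.ln.z_ne (by
    have : z = g * (g⁻¹ * z * g) * g⁻¹ := by group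
    rw [this, e]; group)
  obtain ⟨k, hk, hkz⟩ := h.ln.trans _ hz hz1
  refine ⟨g * k, ?_, ?_⟩
  · rw [mem_centralizer_singleton_iff]
    refine comm_of_conj_eq ?_
    calc g * k * z * (g * k)⁻¹ = g * (k * z * k⁻¹) * g⁻¹ := by group
      _ = z := by rw [hkz]; group
  · rw [← cj_cj, cj_eq_of_mem_normalizer hk]

/-- `NP` at all lines on `z` -/
theorem NP.of_line {T V : Subgroup G} {z : G} (hP : NP V z) (h : One T V z) {L : Subgroup G} (hL : L ∈ lines V z) :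
    NP L z := by
  obtain ⟨c, hc, rfl⟩ := h.line_cent hL
  intro M hM hMi
  have hcz : c⁻¹ * z * c⁻¹⁻¹ = z := by
    have := mem_centralizer_singleton_iff.mp hc
    calc c⁻¹ * z * c⁻¹⁻¹ = c⁻¹ * (z * c) := by group
      _ = z := by rw [← this]; group
  have hM' : M ∈ lines V z := by
    obtain ⟨⟨g, rfl⟩, hz⟩ := hM
    exact ⟨⟨g * c, by rw [cj_cj]⟩, hz⟩
  have h1 : cj c⁻¹ M ∈ lines V z := by
    have := mem_lines_cj (g := c⁻¹) hM'
    rwa [hcz] at this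
  have h2 : cj c⁻¹ M ≤ ii V := by
    intro x hx p hp hp1
    rw [mem_cj, inv_inv] at hx
    have h3 := hMi hx (c * p * c⁻¹) (conj_mem_cj hp) (fun e => hp1 (conj_eq_one_iff.mp e))
    rw [ws_cj] at h3
    have h4 := conj_mem_ws c⁻¹ h3
    have e1 : c⁻¹ * (c * x * c⁻¹) * c⁻¹⁻¹ = x := by group
    have e2 : c⁻¹ * (c * p * c⁻¹) * c⁻¹⁻¹ = p := by group
    rwa [e1, e2] at h4
  have h3 := hP _ h1 h2
  rw [← h3, cj_cj, mul_inv_cancel, cj_one]

namespace One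

variable {T V L : Subgroup G} {z y q : G}

/-- `κ² = [w, w^e] ∈ I_L` for `κ = [w, e]`, `e ∈ E_q` (of `L`) moves `y`, `[q, w] ∈ E_z` (of `L`) -/
theorem kappa_mem (h : One T V z) (hL : L ∈ lines V z) (hy : y ∈ V) (hy1 : y ≠ 1) (hyz : y ≠ z)
    (hq : q ∈ L) (hq1 : q ≠ 1) (hqz : q ≠ z) {w e : G} (hw : w ∈ ws V y) (he : e ∈ ee L q)
    (ey : e * y * e⁻¹ = z * y) (hn : w * q * w⁻¹ * q⁻¹ ∈ ee L z) : ⁅w, e * w * e⁻¹⁆ ∈ ii L := by
  have hz := h.ln.z_mem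
  have hz1 := h.ln.z_ne
  obtain ⟨c, hLc, T', h'⟩ := h.of_line hL hz1
  have hs : z * y ∈ V := mul_mem hz hy
  have hs1 : z * y ≠ 1 := h.mul_ne_one hy (Ne.symm hyz)
  have hww : w⁻¹ = w := inv_eq_self (h.sq hy hy1 w hw)
  have hee : e⁻¹ = e := inv_eq_self (h'.sq hq hq1 e he.1)
  have hw' : e * w * e⁻¹ ∈ ws V (z * y) := by
    have := conj_mem_ws e hw
    rwa [ey] at this
  have hww' : (e * w * e⁻¹)⁻¹ = e * w * e⁻¹ := by
    calc (e * w * e⁻¹)⁻¹ = e * w⁻¹ * e⁻¹ := by group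
      _ = e * w * e⁻¹ := by rw [hww]
  set f := w * e * w⁻¹ with hf
  have hff : f⁻¹ = f := by
    calc f⁻¹ = w * e⁻¹ * w⁻¹ := by rw [hf]; group
      _ = f := by rw [hee]
  have h1 : ⁅w, e * w * e⁻¹⁆ = ⁅f, e⁆ := by
    rw [commutatorElement_def, commutatorElement_def, hww', hff]
    have e1 : w * (e * w * e⁻¹) * w⁻¹ * (e * w * e⁻¹) = w * e * w * e⁻¹ * w⁻¹ * e * w * e⁻¹ := by group
    have e2 : f * e * f * e⁻¹ = w * e * w⁻¹ * e * w * e * w⁻¹ * e⁻¹ := by rw [hf]; group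
    rw [e1, e2, hww, hee]
  -- `f` commutes with `q`
  have hfq : f * q = q * f := by
    have h2 : e * (w⁻¹ * q * w) = (w⁻¹ * q * w) * e := by
      have e1 : w⁻¹ * q * w = (w * q * w⁻¹ * q⁻¹) * q := by
        rw [hww]; group
      rw [e1]
      refine comm_mul_of ?_ ?_
      · exact h'.ee_comm hq hq1 hL.2 hz1 he hn
      · exact (h'.V_comm hq (h'.ws_le_centralizer_V hq hq1 he.1)).symm
    calc f * q = w * (e * (w⁻¹ * q * w)) * w⁻¹ := by rw [hf]; group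
      _ = w * ((w⁻¹ * q * w) * e) * w⁻¹ := by rw [h2]
      _ = q * f := by rw [hf]; group
  have h2 : ⁅f, e⁆ ∈ ws L q := by
    rw [commutatorElement_def]
    refine mul_mem ?_ (inv_mem he.1)
    exact conj_mem_of_normalizer (centralizer_le_normalizer_ws L q) (mem_centralizer_singleton_iff.mpr hfq) he.1
  have h3 : ⁅w, e * w * e⁻¹⁆ ∈ ii V := h.comm_ii_mem hy hy1 hs hs1 hw hw'
  have h4 : ⁅w, e * w * e⁻¹⁆ ∈ ws L z := by
    rw [hLc, ws_cj]
    exact h3 z hz hz1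
  refine h'.mem_ii hq hq1 hL.2 hz1 (Ne.symm hqz) ?_ h4
  rw [h1]; exact h2

/-- `u ∈ I_V ∩ I_L`, `u ∉ V`, `q ∈ L` not in `E_z` : `u ∉ L` -/
theorem not_mem_line (h : One T V z) (hL : L ∈ lines V z) (hq : q ∈ L) (hqE : q ∉ ee V z) {u : G}
    (hu : u ∈ ii V) (huV : u ∉ V) : u ∉ L := by
  intro huL
  apply hqE
  refine h.ii_le_ee h.ln.z_mem h.ln.z_ne (h.line_le_ii hL huL ?_ ?_ hu hq)
  · rintro rfl; exact huV (one_mem _)
  · rintro rfl; exact huV h.ln.z_mem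

/-- `D_p > I` at every point of every line on `z` -/
theorem exists_dd (h : One T V z) (hD : ¬ dd V z ≤ ii V) (hL : L ∈ lines V z) (hq : q ∈ L) (hq1 : q ≠ 1) :
    ∃ d ∈ dd L q, d ∉ ii L := by
  obtain ⟨d, hd, hdI⟩ := SetLike.not_le_iff_exists.mp hD
  obtain ⟨c, hc, hLc⟩ := h.line_cent hL
  obtain ⟨-, -, T', h'⟩ := h.of_line hL h.ln.z_ne
  obtain ⟨g, hg, hgq⟩ := h'.ln.trans q hq hq1
  have hcz : c * z * c⁻¹ = z := conj_eq_of_comm (mem_centralizer_singleton_iff.mp hc)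
  have hws : ∀ x, ws L x = ws V x := fun x => by rw [hLc, ws_cj]
  have h1 : c * d * c⁻¹ ∈ dd L z := by
    refine ⟨by rw [hws, ← hcz]; exact conj_mem_ws c hd.1, fun r hr hr1 b hb => ?_⟩
    have hr' : c⁻¹ * r * c ∈ V := by rw [hLc] at hr; exact mem_cj.mp hr
    have hb' : c⁻¹ * b * c ∈ ws V (c⁻¹ * r * c) := by
      rw [hws] at hb
      have := conj_mem_ws c⁻¹ hb
      rwa [inv_inv] at this
    have h2 := hd.2 _ hr' (conj_ne_one hr1) _ hb'
    calc c * d * c⁻¹ * b = c * (d * (c⁻¹ * b * c)) * c⁻¹ := by group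
      _ = c * ((c⁻¹ * b * c) * d) * c⁻¹ := by rw [h2]
      _ = b * (c * d * c⁻¹) := by group
  have h1' : c * d * c⁻¹ ∉ ii L := by
    intro hi
    apply hdI
    intro p hp hp1
    have hp' : c * p * c⁻¹ ∈ L := by rw [hLc]; exact conj_mem_cj hp
    have h2 := hi _ hp' (fun e => hp1 (conj_eq_one_iff.mp e))
    rw [hws] at h2
    have h3 := conj_mem_ws c⁻¹ h2
    have e1 : c⁻¹ * (c * d * c⁻¹) * c⁻¹⁻¹ = d := by group
    have e2 : c⁻¹ * (c * p * c⁻¹) * c⁻¹⁻¹ = p := by group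
    rwa [e1, e2] at h3
  refine ⟨g * (c * d * c⁻¹) * g⁻¹, ?_, fun hi => h1' ?_⟩
  · have := conj_mem_dd hg h1
    rwa [hgq] at this
  · have h2 := conj_mem_of_normalizer' (normalizer_le_normalizer_ii L) hg hi
    have e1 : g⁻¹ * (g * (c * d * c⁻¹) * g⁻¹) * g = c * d * c⁻¹ := by group
    rwa [e1] at h2

/-- **(N6)** in `One` language: `D_x > I`, `λ ∉ Ē_{λ'}` implies `[λ', A_λ] ≤ Ē_{λ'}` -/
theorem nsix_line [Finite G] (h : One T V z) (hN : NT V) (hD : ¬ dd V z ≤ ii V) (hL : L ∈ lines V z) (hy : y ∈ V)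
    (hy1 : y ≠ 1) (hyz : y ≠ z) (hq : q ∈ L) (hq1 : q ≠ 1) (hqz : q ≠ z) (hyE : y ∉ ee L z) {w : G}
    (hw : w ∈ ws V y) : w * q * w⁻¹ * q⁻¹ ∈ ee L z := by
  obtain ⟨-, -, T', h'⟩ := h.of_line hL h.ln.z_ne
  obtain ⟨d, hd, hdI⟩ := h.exists_dd hD hL hq hq1
  exact h'.nsix_nt (hN.of_lines hL) (h.mem_lines_symm hL) hq hq1 hqz hy hy1 hyz hd hdI hyE
    (by rw [ws_of_lines hL]; exact hw)

/-- **(N13)** no plane, `D_x > I`: `β(b, b) = 0` for `b = α(λ')`, `λ' ∉ Ē_λ`, `λ ∉ Ē_{λ'}` -/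
theorem nt_beta_zero [Finite G] (h : One T V z) (hN : NT V) (hP : NP V z) (hD : ¬ dd V z ≤ ii V)
    (hL : L ∈ lines V z) (hy : y ∈ V) (hy1 : y ≠ 1) (hyz : y ≠ z) (hq : q ∈ L) (hq1 : q ≠ 1) (hqz : q ≠ z)
    (hqE : q ∉ ee V z) (hyE : y ∉ ee L z) {b : G} (hb : b ∈ ws V y) (hT : Tw V z q y b) : ⁅q, b⁆ ∈ V := by
  have hz := h.ln.z_mem
  have hz1 := h.ln.z_ne
  obtain ⟨-, -, T', h'⟩ := h.of_line hL hz1
  have hNL : NT L := hN.of_lines hL
  have hs : z * y ∈ V := mul_mem hz hy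
  have hs1 : z * y ≠ 1 := h.mul_ne_one hy (Ne.symm hyz)
  have hsy : z * y ≠ y := fun e' => hz1 (by simpa using e')
  have hsz : z * y ≠ z := fun e' => hy1 (by simpa using e')
  have hqW : q ∈ ws V z := le_ws hL hq
  have hzzz := h.ln.sq z hz
  have hyy := h.ln.sq y hy
  by_cases hall : ∀ w ∈ ws V y, ∀ w' ∈ ws V (z * y), Tw V y w (z * y) w' → ⁅w, w'⁆ ∈ V
  · obtain ⟨b', hb', hT'⟩ := h.tw_exists hy hy1 hs hs1 hb
    have h1 := h.beta_tw hz hz1 hy hy1 hyz hy hy1 hs hs1 hsy hqW hb hb hb' hT hT'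
    have h2 := mul_mem h1 (hall b hb b' hb' hT')
    rwa [inv_mul_cancel_right] at h2
  push Not at hall
  obtain ⟨w, hw, w', hw', hTw, hww⟩ := hall
  have hyW : y ∈ ws L z := by rw [ws_of_lines hL]; exact h.V_le hz hz1 hy
  obtain ⟨e, he, hey⟩ := h'.nt_move_ee hNL hq hq1 hL.2 hz1 (Ne.symm hqz) hyW hyE
  have hek : e ∈ kq V z := by
    have := he.2 z hL.2 hz1
    rwa [kq_of_lines hL] at this
  have hex : e ∈ xl V := kq_le_xl hz hz1 hek
  have hew : e * w * e⁻¹ ∈ ws V (z * y) := by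
    have := conj_mem_ws e hw
    rwa [hey] at this
  -- `u`
  set u := ⁅w, e * w * e⁻¹⁆ with hu
  have huI : u ∈ ii V := h.comm_ii_mem hy hy1 hs hs1 hw hew
  have huL : u ∈ ii L := h.kappa_mem hL hy hy1 hyz hq hq1 hqz hw he hey
    (h.nsix_line hN hD hL hy hy1 hyz hq hq1 hqz hyE hw)
  have huV : u ∉ V := by
    intro hc
    apply hww
    have h1 : (e * w * e⁻¹) * w'⁻¹ ∈ ee V (z * y) := (h.tw_iff hy hy1 hw hex hey).mp hTw
    have h2 := h.beta_right hy hy1 hs hs1 hw hew hw' h1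
    have h3 := mul_mem (inv_mem h2) hc
    have e1 : (⁅w, e * w * e⁻¹⁆ * ⁅w, w'⁆⁻¹)⁻¹ * u = ⁅w, w'⁆ := by rw [← hu]; group
    rwa [e1] at h3
  have huL' : u ∉ L := h.not_mem_line hL hq hqE huI huV
  have huu : u * u = 1 := h.sq hz hz1 u (huI z hz hz1)
  -- `q` and `b₀` in `N`
  obtain ⟨k, hk, hk1, hku⟩ := h.exists_mover_cent huI huV hs hs1
  have hkz : k * z * k⁻¹ = y := by
    rw [h.move hs hs1 hz hz1 (Ne.symm hsz) hk hk1, h.ln.comm hz hy, mul_assoc, hzzz, mul_one]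
  have hqL' : z * q ∈ L := mul_mem hL.2 hq
  have hsL1 : z * q ≠ 1 := h'.mul_ne_one hq (Ne.symm hqz)
  obtain ⟨k', hk', hk1', hku'⟩ := h'.exists_mover_cent huL huL' hqL' hsL1
  have hkz' : k' * z * k'⁻¹ = q := by
    rw [h'.move hqL' hsL1 hL.2 hz1 (fun e' => hq1 (by simpa using e'.symm)) hk' hk1',
      h'.ln.comm hL.2 hq, mul_assoc, hzzz, mul_one]
  have hqN : q ∈ nu u z := subset_closure ⟨k', mem_centralizer_singleton_iff.mpr hku', hkz'.symm⟩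
  have hb₀N : k * q * k⁻¹ ∈ nu u z := conj_mem_nu (mem_centralizer_singleton_iff.mpr hku) hqN
  have hb₀W : k * q * k⁻¹ ∈ ws V y := by
    have := conj_mem_ws k hqW
    rwa [hkz] at this
  have hkx : k ∈ xl V := kq_le_xl hs hs1 hk
  have hT₀ : Tw V z q y (k * q * k⁻¹) := by
    have := h.tw_conj hkx z q
    rwa [hkz] at this
  -- ALPHA
  have hqD := h.not_mem_dd_of_move hN hL hy hy1 hyz hq hq1 hqz he hey
  obtain ⟨g, hg, -, hgq⟩ := h.nt_move_dd hN hz hz1 hqW hqD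
  have S : Spr V L z y q e g :=
    ⟨hL, hy, hy1, hyz, hq, hq1, hqz, he, hey, fun p _ _ c hc => dd_comm_fl hc hg, hgq⟩
  set b₀ := k * q * k⁻¹ with hb₀
  have h1 : ⁅q, b₀⁆ = 1 := by
    rcases S.nu_comm h hN huI huL huV hz hz1 hy hy1 hyz hqN hqW hb₀N hb₀W with e1 | e1
    · exact e1
    · exfalso
      -- `b₀` moves `q` to `u q`
      have hbV := h.ws_le_centralizer_V hy hy1 hb₀W
      have hbz : b₀ * z * b₀⁻¹ = z := conj_eq_of_comm (h.V_comm hz hbV).symm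
      have h2 : b₀ * q * b₀⁻¹ = u⁻¹ * q := by
        rw [← e1]; group
      have hL2 : cj b₀ L ∈ lines L z := by
        have := mem_lines_cj (g := b₀) (L := L) (V := L) (x := z) ⟨⟨1, (cj_one L).symm⟩, hL.2⟩
        rwa [hbz] at this
      have h3 : b₀ * q * b₀⁻¹ ∈ ii L := by
        rw [h2]; exact mul_mem (inv_mem huL) (h'.V_le_ii hq)
      have h4 : cj b₀ L = L := by
        refine hP.of_line h hL _ hL2 (h'.line_le_ii hL2 (conj_mem_cj hq) (fun e' => hq1 (conj_eq_one_iff.mp e'))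
          (fun e' => hqz ?_) h3)
        calc q = b₀⁻¹ * (b₀ * q * b₀⁻¹) * b₀ := by group
          _ = b₀⁻¹ * (b₀ * z * b₀⁻¹) * b₀ := by rw [e', hbz]
          _ = z := by group
      apply huL'
      have h5 : b₀ * q * b₀⁻¹ ∈ L := by
        have := conj_mem_cj (g := b₀) hq
        rwa [h4] at this
      rw [h2] at h5
      have h6 := mul_mem h5 (inv_mem hq)
      rw [mul_inv_cancel_right] at h6
      exact inv_mem_iff.mp h6
  have h2 : b₀ * b⁻¹ ∈ ee V y := (h.tw_iff hz hz1 hqW hkx hkz).mp hT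
  have h3 := h.beta_right hz hz1 hy hy1 hqW hb₀W hb h2
  rw [h1, one_mul] at h3
  exact inv_mem_iff.mp h3

end One

end Cfsg.Agent.Omega.NO3S.TwoOne
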