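import Cfsg.Agent.Omega.NO3S.TwoOne.TD.Abs
import Cfsg.Agent.Omega.NO3S.TwoOne.TD.N13
import Cfsg.Agent.Omega.NO3S.TwoOne.TI.Plug

/-!
# NO-3S, `q = 2`, `n = 1`, no `λ`-transvections: `|A| ≥ 4`, `D_x > I`, no plane is impossible (helper409's text #18674)

* `One.in_six`, `One.in_bb` : (N6) and (N13) in the module; `One.dat` : the record `TD.Dat`;
* `One.np_dd_false'` : `NT V`, `NP V z`, `¬ D_z ≤ I`, `|A| ≥ 4` is impossible;
* `One.np_false` : `NT V`, `NP V z`, `|A| ≥ 4` is impossible.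
-/

set_option autoImplicit false
set_option linter.unusedSectionVars false

namespace Cfsg.Agent.Omega.NO3S.TwoOne

open Subgroup Cfsg Cfsg.Agent.ZN Cfsg.Agent.MinSimple.Geo Cfsg.Agent.Omega.CaseL
open Cfsg.Agent.Omega.NO3S.Fit
open Cfsg.Agent.ZN.Block (conj_mem_of_normalizer conj_mem_of_normalizer' le_normalizer_of_forall
  mem_normalizer_of)
open scoped commutatorElement

universe u

variable {G : Type u} [Group G]

namespace One

variable {T V : Subgroup G} {z : G} {M H : Type u} [AddCommGroup M] [Group H] [DistribMulAction H M]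
  (h : One T V z) (R : MRep V cg z M H) {y : G} (hy : y ∈ V) (hy1 : y ≠ 1) (hyz : y ≠ z)
include h hy hy1 hyz

/-- the line of a line vector `m ≠ v₀` -/
theorem exists_line [Finite G] {m : M} (hm : m ∈ LL R y) : ∃ c ∈ centralizer ({z} : Set G),
    cj c V ∈ lines V z ∧ c * y * c⁻¹ ∈ cj c V ∧ c * y * c⁻¹ ≠ 1 ∧ c * y * c⁻¹ ≠ z ∧ c * y * c⁻¹ ∈ ws V z ∧
    R.phi c • R.pi y = m ∧ R.pi (c * y * c⁻¹) = m := by
  obtain ⟨x, hx⟩ := hm
  obtain ⟨c, hc, rfl⟩ := R.phi_surj x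
  have hz := h.ln.z_mem
  have hz1 := h.ln.z_ne
  have hcz : c * z * c⁻¹ = z := conj_eq_of_comm (mem_centralizer_singleton_iff.mp hc)
  have hL : cj c V ∈ lines V z := by
    have := mem_lines_cj (g := c) (L := V) (V := V) (x := z) ⟨⟨1, (cj_one V).symm⟩, hz⟩
    rwa [hcz] at this
  refine ⟨c, hc, hL, conj_mem_cj hy, fun e => hy1 (conj_eq_one_iff.mp e), fun e => hyz ?_,
    le_ws hL (conj_mem_cj hy), hx, ?_⟩
  · calc y = c⁻¹ * (c * y * c⁻¹) * c := by group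
      _ = c⁻¹ * (c * z * c⁻¹) * c := by rw [e, hcz]
      _ = z := by group
  · rw [← h.rp_act R hc (h.V_le hz hz1 hy)]; exact hx

/-- (N6) at `v₀` -/
theorem loc_six [Finite G] (hN : NT V) (hD : ¬ dd V z ≤ ii V) {m : M} (hm : m ∈ LL R y)
    (h1 : al0 R y m ≠ 1) {a : H} (ha : a ∈ AA R y m) : al0 R y (a • R.pi y + R.pi y) = 1 := by
  have hz := h.ln.z_mem
  have hz1 := h.ln.z_ne
  obtain ⟨c, hc, hL, hqL, hq1, hqz, hqW, hcm, hqm⟩ := h.exists_line R hy hy1 hyz hm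
  set q := c * y * c⁻¹ with hq
  rw [← hqm] at h1
  have hqE : q ∉ ee V z := fun e => h1 ((h.al0_one R hy hy1 hyz hqW).mpr e)
  rw [h.mem_AA R hy hy1 hyz hcm] at ha
  obtain ⟨b, hb, e⟩ := (h.mem_a0 R hy hy1).mp ha
  have hbc := h.ws_le_cz hy hy1 hb
  have hab : a = R.phi (c * b * c⁻¹) := by
    rw [R.phi_mul _ (mul_mem hc hbc) _ (inv_mem hc), R.phi_mul c hc b hbc, R.phi_inv hc, e]
    group
  have hbW : c * b * c⁻¹ ∈ ws V q := conj_mem_ws c hb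
  have hbcz : c * b * c⁻¹ ∈ centralizer ({z} : Set G) := mul_mem (mul_mem hc hbc) (inv_mem hc)
  have hyW := h.V_le hz hz1 hy
  have h2 : (c * b * c⁻¹) * y * (c * b * c⁻¹)⁻¹ * y⁻¹ ∈ ee V z := by
    obtain ⟨d, hd, hdI⟩ := h.exists_dd hD (L := V) ⟨⟨1, (cj_one V).symm⟩, hz⟩ hy hy1
    exact h.nsix_nt hN hL hy hy1 hyz hqL hq1 hqz hd hdI hqE hbW
  have h3 : (c * b * c⁻¹) * y * (c * b * c⁻¹)⁻¹ ∈ ws V z :=
    conj_mem_of_normalizer (centralizer_le_normalizer_ws V z) hbcz hyW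
  rw [hab, h.rp_comm R hbcz hyW h3]
  exact (h.al0_one R hy hy1 hyz h2.1).mpr h2

/-- (N13) at `v₀` -/
theorem loc_bb [Finite G] (hN : NT V) (hP : NP V z) (hD : ¬ dd V z ≤ ii V) {m : M} (hm : m ∈ LL R y)
    (h1 : al0 R y m ≠ 1) (h2 : AL R y m (R.pi y) ≠ 1) : al0 R y m • m = m ∨ al0 R y m • m = m + R.pi y := by
  have hz := h.ln.z_mem
  have hz1 := h.ln.z_ne
  obtain ⟨c, hc, hL, hqL, hq1, hqz, hqW, hcm, hqm⟩ := h.exists_line R hy hy1 hyz hm
  set q := c * y * c⁻¹ with hq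
  have hyW := h.V_le hz hz1 hy
  have hqE : q ∉ ee V z := fun e => h1 (by rw [← hqm]; exact (h.al0_one R hy hy1 hyz hqW).mpr e)
  -- `y ∉ E_z(L)`
  have hyE : y ∉ ee (cj c V) z := by
    intro hE
    apply h2
    have hcy : c⁻¹ * y * c⁻¹⁻¹ ∈ ws V z :=
      conj_mem_of_normalizer (centralizer_le_normalizer_ws V z) (inv_mem hc) hyW
    rw [h.AL_eq R hy hy1 hyz hcm, ← R.phi_inv hc, h.rp_act R (inv_mem hc) hyW]
    have h3 : c⁻¹ * y * c⁻¹⁻¹ ∈ ee V z := by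
      refine ⟨hcy, fun p hp hp1 => ?_⟩
      have h4 := hE.2 (c * p * c⁻¹) (conj_mem_cj hp) (fun e => hp1 (conj_eq_one_iff.mp e))
      rw [kq_cj] at h4
      have h5 := conj_mem_kq c⁻¹ h4
      have e1 : c⁻¹ * (c * p * c⁻¹) * c⁻¹⁻¹ = p := by group
      rwa [e1] at h5
    rw [(h.al0_one R hy hy1 hyz hcy).mpr h3, mul_one, R.phi_inv hc, mul_inv_cancel]
  obtain ⟨b, hb, ht⟩ := h.tw_exists hz hz1 hy hy1 hqW
  have h3 := h.nt_beta_zero hN hP hD hL hy hy1 hyz hqL hq1 hqz hqE hyE hb ht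
  have hbc := h.ws_le_cz hy hy1 hb
  have hbq : b * q * b⁻¹ ∈ ws V z := conj_mem_of_normalizer (centralizer_le_normalizer_ws V z) hbc hqW
  have h4 : b * q * b⁻¹ * q⁻¹ ∈ V := by
    have e1 : b * q * b⁻¹ * q⁻¹ = ⁅q, b⁆⁻¹ := by rw [commutatorElement_def]; group
    rw [e1]; exact inv_mem h3
  have h5 : R.phi b • R.pi q + R.pi q = R.pi (b * q * b⁻¹ * q⁻¹) := h.rp_comm R hbc hqW hbq
  have h6 : al0 R y m = R.phi b := by rw [← hqm]; exact h.al0_eq R hy hy1 hyz hqW hb ht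
  rw [h6, ← hqm]
  have hz0 : R.pi z = 0 := (h.rp_zero R (h.V_le hz hz1 hz)).mpr (Or.inr rfl)
  have key : ∀ t : M, R.phi b • R.pi q + R.pi q = t → R.phi b • R.pi q = R.pi q + t := by
    intro t e
    rw [← e, add_comm (R.phi b • R.pi q), ← add_assoc, h.rp_two R, zero_add]
  by_cases hv1 : b * q * b⁻¹ * q⁻¹ = 1
  · left
    have := key 0 (by rw [h5, hv1, h.rp_one R])
    rwa [add_zero] at this
  rcases h.third hz hz1 hy hy1 hyz h4 hv1 with e | e | e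
  · left
    have := key 0 (by rw [h5, e, hz0])
    rwa [add_zero] at this
  · right
    exact key _ (by rw [h5, e])
  · right
    exact key _ (by rw [h5, e, h.rp_mul R (h.V_le hz hz1 hz) hyW, hz0, zero_add])

/-- (N6) -/
theorem in_six [Finite G] (hN : NT V) (hD : ¬ dd V z ≤ ii V) {l m : M} (hl : l ∈ LL R y) (hm : m ∈ LL R y)
    (h1 : AL R y l m ≠ 1) {a : H} (ha : a ∈ AA R y m) : AL R y l (a • l + l) = 1 := by
  obtain ⟨g, hg⟩ := hl
  rw [h.AL_eq R hy hy1 hyz hg] at h1 ⊢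
  have h2 : al0 R y (g⁻¹ • m) ≠ 1 := fun e => h1 (by rw [e]; group)
  have h3 := h.in_A_conj R hy hy1 hyz hm (x := g⁻¹) ha
  have h4 := h.loc_six R hy hy1 hyz hN hD (smul_mem_LL R y g⁻¹ hm) h2 h3
  have e1 : g⁻¹ • (a • l + l) = (g⁻¹ * a * g⁻¹⁻¹) • R.pi y + R.pi y := by
    rw [smul_add, ← hg]
    change g⁻¹ • (a • g • R.pi y) + g⁻¹ • g • R.pi y = _
    rw [inv_smul_smul, smul_smul, smul_smul]
    congr 2
    group
  rw [e1, h4]; group

/-- (N13) -/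
theorem in_bb [Finite G] (hN : NT V) (hP : NP V z) (hD : ¬ dd V z ≤ ii V) {l m : M} (hl : l ∈ LL R y)
    (hm : m ∈ LL R y) (h1 : AL R y l m ≠ 1) (h2 : AL R y m l ≠ 1) :
    AL R y l m • m = m ∨ AL R y l m • m = m + l := by
  obtain ⟨g, hg⟩ := hl
  have hg' : g • R.pi y = l := hg
  have h3 : AL R y (g⁻¹ • m) (R.pi y) ≠ 1 := by
    intro e
    apply h2
    have h4 := h.in_al_conj R hy hy1 hyz (smul_mem_LL R y g⁻¹ hm) g (R.pi y)
    rw [smul_inv_smul, hg', e] at h4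
    rw [h4]; group
  rw [h.AL_eq R hy hy1 hyz hg] at h1 ⊢
  have h4 : al0 R y (g⁻¹ • m) ≠ 1 := fun e => h1 (by rw [e]; group)
  have e1 : (g * al0 R y (g⁻¹ • m) * g⁻¹) • m = g • (al0 R y (g⁻¹ • m) • g⁻¹ • m) := by
    rw [mul_smul, mul_smul]
  rw [e1]
  rcases h.loc_bb R hy hy1 hyz hN hP hD (smul_mem_LL R y g⁻¹ hm) h4 h3 with e | e
  · left; rw [e, smul_inv_smul]
  · right; rw [e, smul_add, smul_inv_smul, hg']

/-- the record `Dat` -/
theorem dat [Finite G] (hN : NT V) (hP : NP V z) (hD : ¬ dd V z ≤ ii V) (h4 : 4 ≤ (ee V z).relIndex (ws V z)) :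
    TD.Dat (LL R y) (AA R y) (II R y) (AL R y) where
  toGen := h.gen R hy hy1 hyz hN hP h4
  six := fun hl hm h1 _ ha => h.in_six R hy hy1 hyz hN hD hl hm h1 ha
  bb := fun hl hm h1 h2 => h.in_bb R hy hy1 hyz hN hP hD hl hm h1 h2

omit hy hy1 hyz in
/-- **#18674** : `|A| ≥ 4`, no `λ`-transvections, no plane, `D_z > I` is impossible. -/
theorem np_dd_false' [Finite G] (hN : NT V) (hP : NP V z) (hD : ¬ dd V z ≤ ii V)
    (h4 : 4 ≤ (ee V z).relIndex (ws V z)) : False := by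
  obtain ⟨y, hy, hy1, hyz⟩ := h.ln.exists_y
  obtain ⟨M, H, iM, fM, iH, fH, iA, -, ⟨R⟩⟩ := h.fam.exists_mrep
  exact (h.dat R hy hy1 hyz hN hP hD h4).false ⟨_, self_mem_LL R y⟩

omit hy hy1 hyz in
/-- `|A| ≥ 4`, no `λ`-transvections, no plane is impossible. -/
theorem np_false [Finite G] (hN : NT V) (hP : NP V z) (h4 : 4 ≤ (ee V z).relIndex (ws V z)) : False := by
  by_cases hD : dd V z ≤ ii V
  · exact h.np_dd_false hN hP hD h4
  · exact h.np_dd_false' hN hP hD h4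

end One

end Cfsg.Agent.Omega.NO3S.TwoOne
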